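import Groth.Agent.EGA4Alg4.IntegralDim
import Mathlib.RingTheory.NoetherNormalization
import Mathlib.RingTheory.KrullDimension.Polynomial
import Mathlib.RingTheory.KrullDimension.Field
import Mathlib.RingTheory.Ideal.KrullsHeightTheorem

/-!
Noether normalisation of equidimensional algebras: every component dominates the polynomial ring.
-/

set_option autoImplicit false

universe u

namespace Groth.Agent.AbQP57

variable {k A : Type u} [Field k] [CommRing A] [Algebra k A]

/-- Dimension of a local ring versus the component through it. -/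
theorem ringKrullDim_localization_le (P m : Ideal A) [P.IsPrime] [m.IsPrime] [IsDomain (Localization.AtPrime m)]
    (hP : P ∈ minimalPrimes A) (hle : P ≤ m) :
    ringKrullDim (Localization.AtPrime m) ≤ ringKrullDim (A ⧸ P) := by
  have hbot : ∀ a ∈ P, algebraMap A (Localization.AtPrime m) a = 0 := by
    intro a ha
    have hker : RingHom.ker (algebraMap A (Localization.AtPrime m)) ≤ P := fun b hb => by
      obtain ⟨⟨s, hs⟩, hsb⟩ := (IsLocalization.map_eq_zero_iff m.primeCompl _ _).1 hb
      exact ((Ideal.IsPrime.mem_or_mem ‹P.IsPrime›) (show s * b ∈ P by rw [hsb]; exact P.zero_mem)).resolve_left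
        fun h => hs (hle h)
    have : (RingHom.ker (algebraMap A (Localization.AtPrime m))).IsPrime := RingHom.ker_isPrime _
    exact (hP.2 ⟨this, bot_le⟩ hker) ha
  let f : A ⧸ P →+* Localization.AtPrime m := Ideal.Quotient.lift P _ hbot
  refine Order.krullDim_le_of_strictMono (PrimeSpectrum.comap f) fun x y hxy => ?_
  refine lt_of_le_of_ne (Ideal.comap_mono hxy.le) fun h => hxy.ne ?_
  refine PrimeSpectrum.localization_comap_injective (Localization.AtPrime m) m.primeCompl ?_
  have h2 := congrArg (PrimeSpectrum.comap (Ideal.Quotient.mk P)) h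
  rw [← PrimeSpectrum.comap_comp_apply, ← PrimeSpectrum.comap_comp_apply] at h2
  exact h2

/-- Noether normalisation of an equidimensional algebra with local domains. -/
theorem exists_normalisation [Algebra.FiniteType k A] [Nontrivial A] (d : WithBot ℕ∞)
    (hA : ∀ (m : Ideal A) [m.IsMaximal],
      ringKrullDim (Localization.AtPrime m) = d ∧ IsDomain (Localization.AtPrime m)) :
    ∃ (n : Type u) (_ : Finite n) (g : MvPolynomial n k →ₐ[k] A),
      Function.Injective g ∧ g.Finite ∧ ∀ P ∈ minimalPrimes A, P.comap g = ⊥ := by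
  obtain ⟨s, g₀, hinj, hfin⟩ := exists_finite_inj_algHom_of_fg k A
  let e := MvPolynomial.renameEquiv k (Equiv.ulift : ULift.{u} (Fin s) ≃ Fin s)
  let g : MvPolynomial (ULift.{u} (Fin s)) k →ₐ[k] A := g₀.comp e.toAlgHom
  have hg : Function.Injective g := hinj.comp e.injective
  have hgf : g.Finite := hfin.comp (AlgHom.Finite.of_surjective _ e.surjective)
  refine ⟨_, inferInstance, g, hg, hgf, fun P hP => ?_⟩
  let B := MvPolynomial (ULift.{u} (Fin s)) k
  letI : Algebra B A := g.toRingHom.toAlgebra
  haveI : Module.Finite B A := hgf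
  haveI : Algebra.IsIntegral B A := Algebra.IsIntegral.of_finite B A
  have hB : ringKrullDim B = (s : WithBot ℕ∞) := by
    rw [MvPolynomial.ringKrullDim_of_isNoetherianRing, ringKrullDim_eq_zero_of_field]
    simp
  have hdA : ringKrullDim A = (s : WithBot ℕ∞) :=
    (EGA4Alg4.ringKrullDim_eq_of_integral B A hg).trans hB
  have hd : d = (s : WithBot ℕ∞) := by
    haveI : FiniteRingKrullDim A := by
      rw [finiteRingKrullDim_iff_ne_bot_and_top, hdA]
      exact ⟨WithBot.natCast_ne_bot s, fun h => ENat.natCast_ne_top s (WithBot.coe_injective h)⟩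
    obtain ⟨m, hm, hmd⟩ := Ideal.exists_isMaximal_height (R := A)
    rw [← (hA m).1, IsLocalization.AtPrime.ringKrullDim_eq_height m (Localization.AtPrime m), hmd, hdA]
  haveI hPp : P.IsPrime := hP.1.1
  obtain ⟨m, hm, hle⟩ := P.exists_le_maximal hPp.ne_top
  haveI := (hA m).2
  have h1 : (s : WithBot ℕ∞) ≤ ringKrullDim (A ⧸ P) :=
    hd ▸ (hA m).1 ▸ ringKrullDim_localization_le P m hP hle
  by_contra hne
  haveI : (P.comap g).IsPrime := Ideal.IsPrime.comap _
  let Q : Ideal B := P.comap g
  have h2 : ringKrullDim (A ⧸ P) ≤ ringKrullDim (B ⧸ Q) := by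
    haveI : P.LiesOver Q := ⟨rfl⟩
    exact EGA4Alg4.ringKrullDim_le_of_integral (B ⧸ Q) (A ⧸ P)
  have hQ : Q ≠ ⊥ := hne
  obtain ⟨r, hr, hr0⟩ := Submodule.exists_mem_ne_zero_of_ne_bot hQ
  have h3 : ringKrullDim (B ⧸ Q) + 1 ≤ ringKrullDim B :=
    (add_le_add_left (ringKrullDim_le_of_surjective
      (Ideal.Quotient.factor ((Ideal.span_singleton_le_iff_mem Q).2 hr))
      (Ideal.Quotient.factor_surjective _)) 1).trans
      (ringKrullDim_quotient_succ_le_of_nonZeroDivisor (R := B) (mem_nonZeroDivisors_of_ne_zero hr0))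
  rw [hB] at h3
  have h4 := h1.trans h2
  have h5 : (s : WithBot ℕ∞) + 1 ≤ (s : WithBot ℕ∞) := le_trans (add_le_add_left h4 1) h3
  have h6 : ((s + 1 : ℕ) : WithBot ℕ∞) ≤ ((s : ℕ) : WithBot ℕ∞) := by push_cast; exact h5
  have := Nat.cast_le.1 h6
  omega

end Groth.Agent.AbQP57
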