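import Groth.Agent.AbQP57.Homotopy
import Groth.Agent.AbQP57.Norm
import Groth.Agent.An92.Ample.Family
import Groth.Agent.Div89.UFD
import Groth.Agent.Div89.AffineCompl
import Groth.Agent.FlatMor68.RegularFiniteFlat
import Groth.Agent.NeronHD28.SmoothReg
import Groth.Agent.RegUFD52.Basic
import Groth.Agent.Grp57.Dim
import Groth.Agent.Grp57.Shear
import Groth.Agent.MorE57.Descent
import Groth.Agent.SGA3a.GrpSep
import Groth.Agent.Grp57.SmoothDim
import Groth.Agent.S3713
import Mathlib.AlgebraicGeometry.AlgClosed.Basic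

/-!
Smooth groups of finite type over an algebraically closed field carry an ample invertible module.
-/

set_option autoImplicit false
set_option linter.style.haveILetI false
set_option backward.isDefEq.respectTransparency.types false

universe u

open CategoryTheory CategoryTheory.Limits MonoidalCategory CartesianMonoidalCategory MonObj AlgebraicGeometry
  TopologicalSpace

noncomputable section

namespace Groth.Agent.AbQP57

variable {k : Type u} [Field k]

/-- Finite type schemes smooth over a field have factorial local rings. -/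
theorem ufd_stalk_of_smooth {Y : Scheme.{u}} (q : Y ⟶ Spec (CommRingCat.of k)) [Smooth q] (y : Y) :
    IsDomain (Y.presheaf.stalk y) ∧ UniqueFactorizationMonoid (Y.presheaf.stalk y) := by
  haveI := NeronHD28.regular_stalk_of_smooth q y
  haveI := CAlg1.isDomain_regular (Y.presheaf.stalk y)
  exact ⟨inferInstance, RegUFD52.ufm_of_regular _⟩

/-- A dense affine open of a smooth group is finite flat over affine space. -/
theorem exists_finite_flat_chart [IsAlgClosed k] (H : Over (Spec (CommRingCat.of k))) [GrpObj H]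
    [Smooth H.hom] (U : H.left.Opens) (hU : IsAffineOpen U) [Nonempty U] :
    ∃ (n : Type u) (_ : Finite n) (π : (U : Scheme.{u}) ⟶ AffineSpace n (Spec (CommRingCat.of k))),
      π ≫ pr n _ = U.ι ≫ H.hom ∧ IsFinite π ∧ Flat π ∧ Surjective π := by
  haveI := LocallyOfFiniteType.jacobsonSpace H.hom
  let A : CommRingCat.{u} := Γ(H.left, U)
  let φ : CommRingCat.of k ⟶ A := (Scheme.ΓSpecIso _).inv ≫ H.hom.appLE ⊤ U le_top
  letI : Algebra k A := φ.hom.toAlgebra
  haveI : Algebra.FiniteType k A := by
    refine RingHom.finiteType_algebraMap.1 ?_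
    exact RingHom.FiniteType.comp
      (HasRingHomProperty.appLE @LocallyOfFiniteType H.hom inferInstance
        ⟨⊤, isAffineOpen_top _⟩ ⟨U, hU⟩ le_top)
      (RingHom.FiniteType.of_surjective _ (ConcreteCategory.bijective_of_isIso (Scheme.ΓSpecIso _).inv).2)
  haveI : Nonempty (Spec A) := ⟨hU.isoSpec.hom (Classical.arbitrary _)⟩
  haveI : Nontrivial A := PrimeSpectrum.nonempty_iff_nontrivial.1 ‹_›
  have hA : ∀ (m : Ideal A) [m.IsMaximal],
      ringKrullDim (Localization.AtPrime m) = topologicalKrullDim H.left ∧ IsDomain (Localization.AtPrime m) := by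
    intro m hm
    let p : PrimeSpectrum A := ⟨m, inferInstance⟩
    let x : H.left := hU.fromSpec p
    have hx : x ∈ U := hU.range_fromSpec.le ⟨p, rfl⟩
    have hcl : IsClosed ({x} : Set H.left) := by
      refine isClosed_singleton_of_isLocallyClosed_singleton ?_
      rw [← Set.image_singleton]
      exact ((PrimeSpectrum.isClosed_singleton_iff_isMaximal p).2 hm).isLocallyClosed.image
        hU.fromSpec.isOpenEmbedding.isInducing hU.fromSpec.isOpenEmbedding.isOpen_range.isLocallyClosed
    letI : Algebra A (H.left.presheaf.stalk x) :=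
      TopCat.Presheaf.algebra_section_stalk H.left.presheaf (⟨x, hx⟩ : U)
    haveI : IsLocalization.AtPrime (H.left.presheaf.stalk x) m := hU.isLocalization_stalk' p hx
    let e := (IsLocalization.algEquiv m.primeCompl (Localization.AtPrime m) (H.left.presheaf.stalk x)).toRingEquiv
    haveI := (ufd_stalk_of_smooth H.hom x).1
    exact ⟨(ringKrullDim_eq_of_ringEquiv e).trans (Grp57.ringKrullDim_stalk_eq_dim H x hcl),
      e.toMulEquiv.isDomain⟩
  obtain ⟨n, hn, g, hinj, hfin, hmin⟩ := exists_normalisation (k := k) (A := A) _ hA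
  haveI := hn
  let B : CommRingCat.{u} := CommRingCat.of (MvPolynomial n k)
  let f : Spec A ⟶ Spec B := Spec.map (CommRingCat.ofHom g.toRingHom)
  let π : (U : Scheme.{u}) ⟶ AffineSpace n (Spec (CommRingCat.of k)) :=
    hU.isoSpec.hom ≫ f ≫ (AffineSpace.SpecIso n (CommRingCat.of k)).inv
  haveI : IsFinite f := (IsFinite.SpecMap_iff _).2 hfin
  have hsurj : Surjective f := ⟨RingHom.IsIntegral.comap_surjective
    (RingHom.Finite.to_isIntegral hfin) hinj⟩
  let qB : Spec B ⟶ Spec (CommRingCat.of k) := (AffineSpace.SpecIso n (CommRingCat.of k)).inv ≫ pr n _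
  haveI : Smooth (pr n (Spec (CommRingCat.of k))) := S3713.smooth_over _
  haveI : Smooth qB := inferInstanceAs (Smooth (_ ≫ _))
  haveI : IsLocallyNoetherian (Spec B) := LocallyOfFiniteType.isLocallyNoetherian qB
  haveI : IsLocallyNoetherian H.left := LocallyOfFiniteType.isLocallyNoetherian H.hom
  haveI : IsLocallyNoetherian (Spec A) := isLocallyNoetherian_of_isOpenImmersion hU.fromSpec
  haveI : IsDomain B := inferInstanceAs (IsDomain (MvPolynomial n k))
  have hflat : Flat f := by
    refine FlatMor68.RegularFiniteFlat.t10881 f (fun a => ?_) (NeronHD28.regular_stalk_of_smooth qB) ?_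
    · haveI := NeronHD28.regular_stalk_of_smooth H.hom (hU.fromSpec a)
      exact IsRegularLocalRing.of_ringEquiv (asIso (hU.fromSpec.stalkMap a)).commRingCatIsoToRingEquiv
    · intro Z hZ
      obtain ⟨P, hP, rfl⟩ : ∃ P ∈ minimalPrimes A, PrimeSpectrum.zeroLocus (P : Set A) = Z := by
        have hZ' : Z ∈ irreducibleComponents (PrimeSpectrum A) := hZ
        rw [← PrimeSpectrum.zeroLocus_minimalPrimes] at hZ'
        exact hZ'
      haveI : P.IsPrime := hP.1.1
      have hbot : f ⟨P, inferInstance⟩ = (⊥ : PrimeSpectrum B) := PrimeSpectrum.ext (hmin P hP)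
      have hcl : closure (f '' PrimeSpectrum.zeroLocus (P : Set A)) = Set.univ := by
        refine Set.univ_subset_iff.1 ?_
        have hP' : (⟨P, inferInstance⟩ : PrimeSpectrum A) ∈ PrimeSpectrum.zeroLocus (P : Set A) :=
          (PrimeSpectrum.mem_zeroLocus _ _).2 subset_rfl
        refine subset_trans ?_ (closure_mono (Set.singleton_subset_iff.2 ⟨_, hP', hbot⟩))
        show (Set.univ : Set (PrimeSpectrum B)) ⊆ closure {(⊥ : PrimeSpectrum B)}
        rw [PrimeSpectrum.closure_singleton]
        exact fun q _ => (PrimeSpectrum.mem_zeroLocus _ _).2 fun b hb => by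
          rw [(Submodule.mem_bot B).1 hb]; exact q.asIdeal.zero_mem
      haveI : IrreducibleSpace (Spec B) := inferInstanceAs (IrreducibleSpace (PrimeSpectrum B))
      rw [irreducibleComponents_eq_singleton, Set.mem_singleton_iff]
      exact hcl
  refine ⟨n, hn, π, ?_, inferInstanceAs (IsFinite (_ ≫ _)), inferInstanceAs (Flat (_ ≫ _)),
    inferInstanceAs (Surjective (_ ≫ _))⟩
  simp only [π, f, pr, Category.assoc, AffineSpace.SpecIso_inv_over, ← Spec.map_comp]
  have e : CommRingCat.ofHom (MvPolynomial.C (σ := n) (R := k)) ≫ CommRingCat.ofHom g.toRingHom = φ := by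
    ext a
    exact g.commutes a
  rw [e]
  simp only [φ, Spec.map_comp]
  rw [← Scheme.isoSpec_Spec_inv, ← IsAffineOpen.fromSpec_top,
    IsAffineOpen.SpecMap_appLE_fromSpec H.hom (isAffineOpen_top _) hU le_top,
    IsAffineOpen.isoSpec_hom_fromSpec_assoc]

/-- A smooth group of finite type over an algebraically closed field has an ample invertible module. -/
theorem exists_isAmple_of_smooth [IsAlgClosed k] (H : Over (Spec (CommRingCat.of k))) [GrpObj H]
    [Smooth H.hom] [QuasiCompact H.hom] : ∃ L : H.left.Modules, CohB1.IsAmple L := by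
  classical
  let S : Scheme.{u} := Spec (CommRingCat.of k)
  haveI := LocallyOfFiniteType.jacobsonSpace H.hom
  haveI : IsSeparated H.hom := SGA3a.isSeparated_of_subsingleton H
  haveI : IsLocallyNoetherian H.left := LocallyOfFiniteType.isLocallyNoetherian H.hom
  haveI : CompactSpace H.left := QuasiCompact.compactSpace_of_compactSpace H.hom
  haveI : IsNoetherian H.left := { }
  obtain ⟨U, heU, hU, hUd⟩ := An92.AmpleFam.exists_dense_affineOpen_mem
    (fun x => (ufd_stalk_of_smooth H.hom x).1) (Grp57.unitPt H)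
  haveI : Nonempty U := ⟨⟨_, heU⟩⟩
  haveI : IsAffine (U : Scheme.{u}) := hU
  obtain ⟨n, hn, π, hπ, hπf, hπflat, hπs⟩ := exists_finite_flat_chart H U hU
  haveI := hn
  let U' : Over S := Over.mk (U.ι ≫ H.hom)
  let ιU : U' ⟶ H := Over.homMk U.ι rfl
  let Z : Over S := U' ⊗ H
  let m : Z.left ⟶ H.left := (ιU ▷ H ≫ μ[H]).left
  haveI : IsAffineHom U'.hom := inferInstanceAs (IsAffineHom (U.ι ≫ H.hom))
  haveI : LocallyOfFiniteType U'.hom := inferInstanceAs (LocallyOfFiniteType (U.ι ≫ H.hom))
  haveI : IsSeparated U'.hom := inferInstanceAs (IsSeparated (U.ι ≫ H.hom))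
  haveI : IsAffineHom m := Grp57.translate_prop @IsAffineHom ιU ‹_›
  haveI : IsSeparated Z.hom := by
    have : IsSeparated (fst U' H).left :=
      MorphismProperty.pullback_fst (P := @IsSeparated) U'.hom H.hom ‹_›
    rw [← Over.w (fst U' H)]
    infer_instance
  haveI : Z.left.IsSeparated := ⟨by
    rw [← terminal.comp_from Z.hom]
    infer_instance⟩
  let W : Z.left.Opens := m ⁻¹ᵁ U
  have hW : IsAffineOpen W := hU.preimage m
  haveI : IsAffineHom W.ι := Div89.isAffineHom_ι_of_inter fun V hV => hW.inf hV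
  have hWd : Dense (W : Set Z.left) := hUd.preimage (Grp57.isOpenMap_translate ιU)
  -- the finite flat map to affine space over `H`
  let sq := AffineSpace.isPullback_map (n := n) H.hom
  let π' : Z.left ⟶ AffineSpace n H.left := sq.lift ((fst U' H).left ≫ π) (snd U' H).left (by
    rw [Category.assoc, show π ≫ AffineSpace n S ↘ S = U.ι ≫ H.hom from hπ]
    exact (Over.w (fst U' H)).trans (Over.w (snd U' H)).symm)
  have hπ'm : π' ≫ AffineSpace.map n H.hom = (fst U' H).left ≫ π := sq.lift_fst _ _ _
  have hπ'p : π' ≫ pr n H.left = (snd U' H).left := sq.lift_snd _ _ _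
  have out : IsPullback (snd U' H).left (fst U' H).left H.hom U'.hom :=
    (IsPullback.of_hasPullback U'.hom H.hom).flip
  have hsq' : IsPullback π' (fst U' H).left (AffineSpace.map n H.hom) π := by
    refine IsPullback.of_right ?_ hπ'm sq.flip
    have e : π ≫ AffineSpace n S ↘ S = U'.hom := hπ
    rw [e]
    exact hπ'p.symm ▸ out
  haveI : IsFinite π' := MorphismProperty.of_isPullback (P := @IsFinite) hsq'.flip hπf
  haveI : Flat π' := MorphismProperty.of_isPullback (P := @Flat) hsq'.flip hπflat
  -- the effective Cartier divisor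
  haveI : Smooth (pr n H.left) := S3713.smooth_over _
  haveI : Smooth (pr n H.left ≫ H.hom) := inferInstance
  haveI : IsLocallyNoetherian (AffineSpace n H.left) :=
    LocallyOfFiniteType.isLocallyNoetherian (pr n H.left ≫ H.hom)
  haveI : IsLocallyNoetherian Z.left := LocallyOfFiniteType.isLocallyNoetherian π'
  let C : Closeds (AffineSpace n H.left) :=
    ⟨π' '' (W : Set Z.left)ᶜ, π'.isClosedMap _ W.isOpen.isClosed_compl⟩
  let D := Scheme.IdealSheafData.vanishingIdeal C
  have hs : (D.support : Set (AffineSpace n H.left)) = π' '' (W : Set Z.left)ᶜ :=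
    Scheme.IdealSheafData.coe_support_vanishingIdeal _
  have hmem : ∀ z, z ∈ D.support ↔ z ∈ π' '' (W : Set Z.left)ᶜ := fun z => by rw [← SetLike.mem_coe, hs]
  have hD : BlowUp.IsEffCartierIdeal D := by
    refine Div89.isEffCartier_of_radical_codim_one_ufd D (fun V => ?_) (fun z hz hmax => ?_)
      (fun z _ => ufd_stalk_of_smooth (pr n H.left ≫ H.hom) z)
    · rw [Scheme.IdealSheafData.vanishingIdeal_ideal]
      exact PrimeSpectrum.isRadical_vanishingIdeal _
    · obtain ⟨d, hd, rfl⟩ := (hmem z).1 hz
      have hdmax : ∀ y, y ∉ W → y ⤳ d → y = d := fun y hy hyd =>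
        (MorE57.isClosed_singleton_fibre π' y d hyd
          (hmax (π' y) ((hmem _).2 ⟨y, hy, rfl⟩) (hyd.map π'.continuous)).symm).symm
      have h1 := Div89.ringKrullDim_stalk_eq_one_of_isAffineHom W d hd hdmax (hWd.closure_eq ▸ trivial)
      rw [ringKrullDim_stalk_eq_coheight] at h1 ⊢
      rwa [← Grp57.coheight_eq_of_integral_of_generalizing π' (Flat.generalizingMap π') d]
  haveI : Nonempty (AffineSpace n H.left) := ⟨zeroSec n H.left (Grp57.unitPt H)⟩
  obtain ⟨L, σ, hL, hσ⟩ := An92.AmpleFam.exists_genLocus_of_effCartier hD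
  let M := (Scheme.Modules.pullback (zeroSec n H.left)).obj L
  -- the sections
  let pS : AffineSpace n S ⟶ S := pr n S
  haveI : JacobsonSpace (AffineSpace n S) := LocallyOfFiniteType.jacobsonSpace pS
  haveI : JacobsonSpace (U : Scheme.{u}) := LocallyOfFiniteType.jacobsonSpace U'.hom
  have key : ∀ a : AffineSpace n S, IsClosed ({a} : Set (AffineSpace n S)) →
      ∃ G ∈ Amp73.GenSet M, IsAffineOpen G ∧ ∀ x : H.left, x ∈ G ↔
        ∀ (c : (U : Scheme.{u})) (hc : IsClosed ({c} : Set (U : Scheme.{u}))), π c = a →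
          ∀ cp : 𝟙_ (Over S) ⟶ U', cp.left (IsLocalRing.closedPoint k) = c →
            m ((lift (toUnit H ≫ cp) (𝟙 H)).left x) ∈ U := by
    intro a ha
    let tp : S ⟶ AffineSpace n S := pointOfClosedPoint pS a ha
    have htp : tp ≫ pS = 𝟙 S := pointOfClosedPoint_comp pS a ha
    have hta : tp (IsLocalRing.closedPoint k) = a := pointOfClosedPoint_apply pS a ha _
    let it : H.left ⟶ AffineSpace n H.left := sq.lift (H.hom ≫ tp) (𝟙 _) (by
      rw [Category.assoc, show tp ≫ AffineSpace n S ↘ S = 𝟙 S from htp, Category.id_comp, Category.comp_id])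
    have hitm : it ≫ AffineSpace.map n H.hom = H.hom ≫ tp := sq.lift_fst _ _ _
    have hitp : it ≫ pr n H.left = 𝟙 _ := sq.lift_snd _ _ _
    obtain ⟨e⟩ := nonempty_pullback_section_iso (n := n) (ufd_stalk_of_smooth H.hom) L hL it hitp
    let G := CohB1.genLocus _ (Amp73.pullHom it σ)
    have hG : ∀ x, x ∈ G ↔ it x ∉ π' '' (W : Set Z.left)ᶜ := fun x => by
      rw [show G = it ⁻¹ᵁ CohB1.genLocus L σ from Amp73.genLocus_pullHom it hL σ, ← hs]
      show it x ∈ (CohB1.genLocus L σ : Set _) ↔ _
      rw [hσ]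
      rfl
    let F : Set (U : Scheme.{u}) := π ⁻¹' {a}
    have hFf : F.Finite := π.finite_preimage_singleton a
    have hFc : ∀ c ∈ F, IsClosed ({c} : Set (U : Scheme.{u})) := fun c hc => by
      refine closure_subset_iff_isClosed.1 fun c' hc' => ?_
      have hcc : c ⤳ c' := specializes_iff_mem_closure.2 hc'
      exact MorE57.isClosed_singleton_fibre π c c' hcc
        (((hcc.map π.continuous).mem_closed ha (show π c ∈ ({a} : Set _) from hc)).trans
          (show π c = a from hc).symm)
    let cpt : ∀ c : F, 𝟙_ (Over S) ⟶ U' := fun c =>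
      Over.homMk (pointOfClosedPoint U'.hom c.1 (hFc c.1 c.2))
        (pointOfClosedPoint_comp U'.hom c.1 (hFc c.1 c.2))
    have hcpt : ∀ c : F, (cpt c).left (IsLocalRing.closedPoint k) = c.1 := fun c =>
      pointOfClosedPoint_apply U'.hom c.1 (hFc c.1 c.2) _
    let jc : F → (H.left ⟶ Z.left) := fun c => (lift (toUnit H ≫ cpt c) (𝟙 H)).left
    have hj1 : ∀ c, jc c ≫ (snd U' H).left = 𝟙 _ := fun c => by
      rw [← Over.comp_left, lift_snd]; rfl
    have hj2 : ∀ c, jc c ≫ (fst U' H).left = H.hom ≫ (cpt c).left := fun c => by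
      rw [← Over.comp_left, lift_fst]; rfl
    have hjsq : ∀ c, IsPullback (jc c) H.hom (fst U' H).left (cpt c).left := fun c => by
      refine IsPullback.of_right ?_ (hj2 c) out
      rw [hj1, show (cpt c).left ≫ U'.hom = 𝟙 S from Over.w (cpt c)]
      exact IsPullback.of_horiz_isIso ⟨(Category.id_comp _).trans (Category.comp_id _).symm⟩
    have hjit : ∀ c, jc c ≫ π' = it := fun c => by
      refine sq.hom_ext ?_ ?_
      · have hc2 : (cpt c).left ≫ π = tp := by
          have hw : ((cpt c).left ≫ π) ≫ pS = 𝟙 S := by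
            rw [Category.assoc, show π ≫ pS = U'.hom from hπ]
            exact Over.w (cpt c)
          refine congrArg Subtype.val ((pointEquivClosedPoint pS).injective
            (a₁ := ⟨(cpt c).left ≫ π, hw⟩) (a₂ := ⟨tp, htp⟩) (Subtype.ext ?_))
          simp only [pointEquivClosedPoint_apply_coe, Scheme.Hom.comp_apply, hcpt, hta]
          exact c.2
        rw [Category.assoc, hπ'm, ← Category.assoc, hj2, Category.assoc, hc2, hitm]
      · rw [Category.assoc]
        exact (congrArg (jc c ≫ ·) hπ'p).trans ((hj1 c).trans hitp.symm)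
    have hGF : ∀ x, x ∈ G ↔ ∀ c : F, m (jc c x) ∈ U := by
      intro x
      rw [hG]
      constructor
      · intro h c
        by_contra hm
        exact h ⟨jc c x, hm, by rw [← Scheme.Hom.comp_apply, hjit]⟩
      · rintro h ⟨d, hd, hdx⟩
        have hc : π ((fst U' H).left d) = a := by
          rw [← Scheme.Hom.comp_apply, ← hπ'm, Scheme.Hom.comp_apply, hdx, ← Scheme.Hom.comp_apply, hitm,
            Scheme.Hom.comp_apply, Subsingleton.elim (α := PrimeSpectrum k) (H.hom x) (IsLocalRing.closedPoint k),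
            hta]
        let c : F := ⟨(fst U' H).left d, hc⟩
        obtain ⟨y, hy, -⟩ := Scheme.exists_preimage_of_isPullback (hjsq c) d (IsLocalRing.closedPoint k)
          (hcpt c).symm
        have hyx : y = x := by
          have e1 : (pr n H.left) (π' d) = (pr n H.left) (it x) := by rw [hdx]
          rw [← hy] at e1
          simp only [← Scheme.Hom.comp_apply] at e1
          rw [hjit, hitp] at e1
          exact e1
        exact hd (by rw [← hy, hyx]; exact h c)
    have hjaff : ∀ c : F, IsAffineOpen ((jc c ≫ m) ⁻¹ᵁ U) := fun c => by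
      haveI : IsClosedImmersion (cpt c).left := haveI : Subsingleton S := inferInstanceAs (Subsingleton (PrimeSpectrum k))
        isClosedImmersion_of_comp_eq_id (Y := S) U'.hom
        (pointOfClosedPoint U'.hom c.1 (hFc c.1 c.2)) (pointOfClosedPoint_comp U'.hom c.1 (hFc c.1 c.2))
      haveI : IsAffineHom (jc c) := MorphismProperty.of_isPullback (P := @IsAffineHom) (hjsq c).flip
        (inferInstanceAs (IsAffineHom (cpt c).left))
      exact hU.preimage _
    refine ⟨G, Amp73.mem_genSet_of_iso e.hom (Amp73.mem_genSet_one _), ?_, fun x => ?_⟩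
    · haveI : Finite F := hFf.to_subtype
      haveI : Nonempty F := by
        obtain ⟨c, hc⟩ := π.surjective a
        exact ⟨⟨c, hc⟩⟩
      haveI : H.left.IsSeparated := ⟨by
        rw [← terminal.comp_from H.hom]
        infer_instance⟩
      have e2 : G = ⨅ c : F, (jc c ≫ m) ⁻¹ᵁ U := Opens.ext (by
        rw [Opens.coe_iInf]
        ext x
        simp only [Set.mem_iInter, SetLike.mem_coe, hGF]
        rfl)
      rw [e2]
      exact IsAffineOpen.iInf hjaff
    · rw [hGF]
      constructor
      · intro h c hc hca cp hcp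
        have : cp = cpt ⟨c, hca⟩ := by
          refine Over.OverMorphism.ext ?_
          refine congrArg Subtype.val ((pointEquivClosedPoint U'.hom).injective
            (a₁ := ⟨cp.left, Over.w cp⟩) (a₂ := ⟨(cpt ⟨c, hca⟩).left, Over.w _⟩) (Subtype.ext ?_))
          simp only [pointEquivClosedPoint_apply_coe, hcp, hcpt]
        subst this
        exact h _
      · intro h c
        exact h c.1 (hFc c.1 c.2) c.2 (cpt c) (hcpt c)
  -- the affine loci cover
  have cover : ∀ x : H.left, IsClosed ({x} : Set H.left) → ∃ G ∈ Amp73.GenSet M, x ∈ G ∧ IsAffineOpen G := by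
    intro x hx
    let xp : 𝟙_ (Over S) ⟶ H :=
      Over.homMk (pointOfClosedPoint H.hom x hx) (pointOfClosedPoint_comp H.hom x hx)
    have hxp : xp.left (IsLocalRing.closedPoint k) = x := pointOfClosedPoint_apply H.hom x hx _
    let kx : U' ⟶ Z := lift (𝟙 U') (toUnit U' ≫ xp)
    let ρ : U' ⟶ H := ιU ≫ (GrpObj.mulRight xp).hom
    have hρ : kx ≫ (ιU ▷ H ≫ μ[H]) = ρ := by
      simp [kx, ρ, GrpObj.mulRight_hom, comp_lift_assoc, lift_whiskerRight_assoc]
    haveI : IsIso (GrpObj.mulRight xp).hom.left :=
      ((Over.forget S).mapIso (GrpObj.mulRight xp)).isIso_hom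
    haveI : IsOpenImmersion ρ.left := inferInstanceAs (IsOpenImmersion (U.ι ≫ (GrpObj.mulRight xp).hom.left))
    let O : Set (U : Scheme.{u}) := ρ.left ⁻¹' (U : Set H.left)
    have hOd : Dense O := hUd.preimage ρ.left.isOpenEmbedding.isOpenMap
    have hOo : IsOpen O := U.isOpen.preimage ρ.left.continuous
    let T : Set (AffineSpace n S) := π '' Oᶜ
    have hTc : IsClosed T := π.isClosedMap _ hOo.isClosed_compl
    haveI : IrreducibleSpace (AffineSpace n S) := inferInstance
    haveI : IsLocallyNoetherian (U : Scheme.{u}) := isLocallyNoetherian_of_isOpenImmersion U.ι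
    have hgen : genericPoint (AffineSpace n S) ∉ T := by
      rintro ⟨c, hc, hce⟩
      have hmax : ∀ z, z ⤳ c → z = c := fun z hz =>
        (MorE57.isClosed_singleton_fibre π z c hz
          (((hce ▸ hz.map π.continuous :
              π z ⤳ genericPoint (AffineSpace n S)).antisymm
            ((genericPoint_spec (AffineSpace n S)).specializes trivial)).eq.trans hce.symm).symm).symm
      obtain ⟨V, hcV, hV⟩ := Div89.exists_nhd_of_maximal c hmax
      obtain ⟨y, hyV, hyO⟩ := hOd.inter_open_nonempty V V.isOpen ⟨c, hcV⟩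
      exact hc ((hV y hyV).mem_open hOo hyO)
    obtain ⟨a, haT, hac⟩ := nonempty_inter_closedPoints (Z := Tᶜ) ⟨_, hgen⟩ hTc.isOpen_compl.isLocallyClosed
    obtain ⟨G, hG, hGa, hGx⟩ := key a hac
    refine ⟨G, hG, (hGx x).2 fun c hc hca cp hcp => ?_, hGa⟩
    have hcO : c ∈ O := not_not.1 fun h => haT ⟨c, h, hca⟩
    have e3 : xp ≫ lift (toUnit H ≫ cp) (𝟙 H) = cp ≫ kx := by
      ext : 1
      · simp [kx, Subsingleton.elim (toUnit (𝟙_ (Over S))) (𝟙 _)]
      · simp [kx, Subsingleton.elim (toUnit (𝟙_ (Over S))) (𝟙 _)]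
    have e4 : (lift (toUnit H ≫ cp) (𝟙 H)).left x = kx.left c := by
      rw [← hxp, ← hcp]
      exact congrArg (fun f : 𝟙_ (Over S) ⟶ Z => f.left (IsLocalRing.closedPoint k)) e3
    rw [e4]
    have : m (kx.left c) = ρ.left c := congrArg (fun f : U' ⟶ H => f.left c) hρ
    rw [this]
    exact hcO
  refine ⟨M, Amp73.isAmple_iff.2 ⟨Amp73.isInvertible_pullback _ hL, inferInstance, fun x => ?_⟩⟩
  obtain ⟨z, hxz, hz⟩ := Grp57.exists_closed_specialization x
  obtain ⟨G, hG, hzG, hGa⟩ := cover z hz
  exact ⟨G, hG, hxz.mem_open G.isOpen hzG, hGa⟩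

end Groth.Agent.AbQP57
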