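import Groth.Agent.PicHens95.Sheaf
import Groth.Agent.ParaF26.Open
import Groth.Agent.Amp73.FrameGlue
import Groth.Agent.Amp73.PullTensor
import Groth.Agent.Amp73.Local
import Mathlib.AlgebraicGeometry.AffineSpace
import Mathlib.RingTheory.MvPolynomial.Localization
import Mathlib.RingTheory.PicardGroup
import Mathlib.RingTheory.Polynomial.UniqueFactorization
import Mathlib.AlgebraicGeometry.Noetherian

/-!
Invertible modules on affine space over a scheme with factorial local rings come from the base: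
all sections of `𝔸(n; Y) → Y` pull such a module back to isomorphic modules.
-/

set_option autoImplicit false
set_option linter.style.haveILetI false
set_option backward.isDefEq.respectTransparency.types false

universe u

open CategoryTheory CategoryTheory.Limits AlgebraicGeometry Opposite TopologicalSpace

noncomputable section

namespace Groth.Agent.AbQP57

open Var76.LineBundle Var76.ZeroScheme

variable {n : Type u} {Y : Scheme.{u}}

/-- The projection. -/
abbrev pr (n : Type u) (Y : Scheme.{u}) : AffineSpace n Y ⟶ Y := AffineSpace n Y ↘ Y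

/-- The zero section. -/
def zeroSec (n : Type u) (Y : Scheme.{u}) : Y ⟶ AffineSpace n Y := AffineSpace.homOfVector (𝟙 Y) 0

@[reassoc (attr := simp)]
theorem zeroSec_pr : zeroSec n Y ≫ pr n Y = 𝟙 Y := AffineSpace.homOfVector_over _ _

theorem preimage_pr_zeroSec (V : Y.Opens) : zeroSec n Y ⁻¹ᵁ (pr n Y ⁻¹ᵁ V) = V := by
  rw [← Scheme.Hom.comp_preimage, zeroSec_pr, Scheme.Hom.id_preimage]

section chart

variable {A : CommRingCat.{u}} (φ : Spec A ⟶ Y) [IsOpenImmersion φ]

instance : IsOpenImmersion (AffineSpace.map n φ) :=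
  MorphismProperty.of_isPullback (AffineSpace.isPullback_map φ).flip inferInstance

/-- The chart of affine space over an affine chart. -/
def chart : Spec (.of (MvPolynomial n A)) ⟶ AffineSpace n Y :=
  (AffineSpace.SpecIso n A).inv ≫ AffineSpace.map n φ

instance : IsOpenImmersion (chart (n := n) φ) := by rw [chart]; infer_instance

theorem chart_pr : chart (n := n) φ ≫ pr n Y = Spec.map (CommRingCat.ofHom MvPolynomial.C) ≫ φ := by
  rw [chart, pr, Category.assoc, AffineSpace.map_over, AffineSpace.SpecIso_inv_over_assoc]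

theorem cc_chart : Spec.map (CommRingCat.ofHom (MvPolynomial.constantCoeff (σ := n) (R := A))) ≫ chart φ =
    φ ≫ zeroSec n Y := by
  refine AffineSpace.hom_ext ?_ fun i => ?_
  · rw [Category.assoc, chart_pr, ← Category.assoc, ← Spec.map_comp]
    have h : CommRingCat.ofHom (MvPolynomial.C (σ := n) (R := A)) ≫
        CommRingCat.ofHom MvPolynomial.constantCoeff = 𝟙 A := by
      ext a
      exact MvPolynomial.constantCoeff_C n a
    rw [h, Spec.map_id, Category.id_comp, Category.assoc, zeroSec_pr, Category.comp_id]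
  · simp only [Scheme.Hom.comp_appTop, CommRingCat.comp_apply, chart, zeroSec,
      AffineSpace.homOfVector_appTop_coord, AffineSpace.map_appTop_coord,
      AffineSpace.SpecIso_inv_appTop_coord, Pi.zero_apply, map_zero]
    rw [← CommRingCat.comp_apply, ← Scheme.ΓSpecIso_inv_naturality, CommRingCat.comp_apply]
    simp

theorem preimage_opensRange_le : pr n Y ⁻¹ᵁ φ.opensRange ≤ (chart (n := n) φ).opensRange := by
  rintro z ⟨a, ha⟩
  obtain ⟨w, hw, -⟩ := Scheme.exists_preimage_of_isPullback (AffineSpace.isPullback_map φ) z a ha.symm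
  refine ⟨(AffineSpace.SpecIso n A).hom w, ?_⟩
  rw [← Scheme.Hom.comp_apply, chart, Iso.hom_inv_id_assoc]
  exact hw

end chart

theorem appLE_congr_hom {X Z : Scheme.{u}} {f g : X ⟶ Z} (h : f = g) (U : Z.Opens) (V : X.Opens)
    (e : V ≤ f ⁻¹ᵁ U) (e' : V ≤ g ⁻¹ᵁ U) : f.appLE U V e = g.appLE U V e' := by
  subst h; rfl

/-- A unit of a polynomial ring over a reduced ring with constant coefficient one is one. -/
theorem eq_one_of_constantCoeff {R : Type u} [CommRing R] [_root_.IsReduced R] {p : MvPolynomial n R}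
    (hp : IsUnit p) (h : MvPolynomial.constantCoeff p = 1) : p = 1 := by
  classical
  ext i
  rw [MvPolynomial.coeff_one]
  split_ifs with hi
  · rw [← hi]; exact h
  · exact IsNilpotent.eq_zero ((MvPolynomial.isUnit_iff.1 hp).2 i (fun e => hi e.symm))

/-- A unit on a tube which is one on the zero section is one. -/
theorem unit_eq_one [IsReduced Y] (V : Y.Opens) (u : Γ(AffineSpace n Y, pr n Y ⁻¹ᵁ V)) (hu : IsUnit u)
    (h : (zeroSec n Y).app (pr n Y ⁻¹ᵁ V) u = 1) : u = 1 := by
  refine (AffineSpace n Y).IsSheaf.section_ext fun z hz => ?_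
  obtain ⟨V', hV', hzV, hle⟩ := exists_isAffineOpen_mem_and_subset (show pr n Y z ∈ V from hz)
  have hle' : pr n Y ⁻¹ᵁ V' ≤ pr n Y ⁻¹ᵁ V := (pr n Y).preimage_mono hle
  refine ⟨pr n Y ⁻¹ᵁ V', hle', hzV, ?_⟩
  let W := pr n Y ⁻¹ᵁ V'
  let u' : Γ(AffineSpace n Y, W) := (AffineSpace n Y).presheaf.map (homOfLE hle').op u
  show u' = (AffineSpace n Y).presheaf.map (homOfLE hle').op 1
  rw [map_one]
  let A : CommRingCat.{u} := Γ(Y, V')
  let φ : Spec A ⟶ Y := hV'.fromSpec
  let j := chart (n := n) φ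
  have hWj : W ≤ j.opensRange :=
    ((pr n Y).preimage_mono hV'.opensRange_fromSpec.ge).trans (preimage_opensRange_le φ)
  have htop : (⊤ : (Spec (.of (MvPolynomial n A))).Opens) ≤ j ⁻¹ᵁ W := by
    intro x _
    show (j ≫ pr n Y) x ∈ V'
    rw [chart_pr φ]
    exact hV'.range_fromSpec.le ⟨_, rfl⟩
  let β : Γ(AffineSpace n Y, W) ⟶ CommRingCat.of (MvPolynomial n A) :=
    j.appLE W ⊤ htop ≫ (Scheme.ΓSpecIso _).hom
  have hinj : Function.Injective β := by
    have h1 : Function.Bijective (j.app W) := ParaF26.bijective_app_of_le j hWj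
    have h2 : Function.Bijective (j.appLE W ⊤ htop) := by
      rw [Scheme.Hom.appLE]
      exact (ParaF26.bijective_map_of_eq htop le_top).comp h1
    exact ((ConcreteCategory.bijective_of_isIso (Scheme.ΓSpecIso _).hom).comp h2).1
  refine hinj ?_
  rw [map_one]
  haveI : _root_.IsReduced A := IsReduced.component_reduced V'
  refine eq_one_of_constantCoeff ((hu.map _).map β.hom) ?_
  -- the constant coefficient is the restriction to the zero section
  have e0 := cc_chart (n := n) φ
  have hs : (⊤ : (Spec A).Opens) ≤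
      (Spec.map (CommRingCat.ofHom (MvPolynomial.constantCoeff (σ := n) (R := A))) ≫ j) ⁻¹ᵁ W :=
    fun x _ => htop (x := Spec.map (CommRingCat.ofHom (MvPolynomial.constantCoeff (σ := n) (R := A))) x) trivial
  have key : β ≫ CommRingCat.ofHom (MvPolynomial.constantCoeff (σ := n) (R := A)) =
      (Spec.map (CommRingCat.ofHom (MvPolynomial.constantCoeff (σ := n) (R := A))) ≫ j).appLE W ⊤ hs ≫
        (Scheme.ΓSpecIso A).hom := by
    rw [Category.assoc, ← Scheme.ΓSpecIso_naturality, ← Scheme.Hom.appLE_comp_appLE _ _ W ⊤ ⊤ htop le_top]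
    simp [Scheme.Hom.appTop, Scheme.Hom.app_eq_appLE]
    rfl
  refine (ConcreteCategory.congr_hom key u').trans ?_
  have hs' : (⊤ : (Spec A).Opens) ≤ (φ ≫ zeroSec n Y) ⁻¹ᵁ W := by rw [← e0]; exact hs
  have key2 : (Spec.map (CommRingCat.ofHom (MvPolynomial.constantCoeff (σ := n) (R := A))) ≫ j).appLE W ⊤ hs u' =
      (φ ≫ zeroSec n Y).appLE W ⊤ hs' u' :=
    ConcreteCategory.congr_hom (appLE_congr_hom e0 W ⊤ hs hs') u'
  have key3 : (φ ≫ zeroSec n Y).appLE W ⊤ hs' u' = 1 := by
    have hle2 : (⊤ : (Spec A).Opens) ≤ φ ⁻¹ᵁ (zeroSec n Y ⁻¹ᵁ W) := hs'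
    rw [← Scheme.Hom.appLE_comp_appLE φ (zeroSec n Y) W (zeroSec n Y ⁻¹ᵁ W) ⊤ le_rfl hle2,
      CommRingCat.comp_apply]
    have : (zeroSec n Y).appLE W (zeroSec n Y ⁻¹ᵁ W) le_rfl u' = 1 := by
      rw [← Scheme.Hom.app_eq_appLE]
      refine (ConcreteCategory.congr_hom ((zeroSec n Y).naturality (homOfLE hle').op) u).trans ?_
      rw [CommRingCat.comp_apply, h, map_one]
    rw [this, map_one]
  rw [CommRingCat.comp_apply, key2, key3, map_one]

variable [Finite n]

/-- An invertible module on affine space over `Y` is trivial on the tube over a neighbourhood of any point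
of `Y` with factorial local ring. -/
theorem exists_tube_frame [IsLocallyNoetherian Y] (y : Y) [IsDomain (Y.presheaf.stalk y)]
    [UniqueFactorizationMonoid (Y.presheaf.stalk y)] (L : (AffineSpace n Y).Modules)
    (hL : PicF.IsInvertible L) :
    ∃ V : Y.Opens, y ∈ V ∧ ∃ f : Γ(L, pr n Y ⁻¹ᵁ V), IsFrame L (pr n Y ⁻¹ᵁ V) f := by
  classical
  obtain ⟨V, hV, hyV, -⟩ := exists_isAffineOpen_mem_and_subset (U := (⊤ : Y.Opens)) (x := y) trivial
  let A : CommRingCat.{u} := Γ(Y, V)
  haveI : IsNoetherianRing A := IsLocallyNoetherian.component_noetherian ⟨V, hV⟩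
  letI : Algebra A (Y.presheaf.stalk y) := TopCat.Presheaf.algebra_section_stalk Y.presheaf ⟨y, hyV⟩
  let p := (hV.primeIdealOf ⟨y, hyV⟩).asIdeal
  haveI : IsLocalization.AtPrime (Y.presheaf.stalk y) p := hV.isLocalization_stalk ⟨y, hyV⟩
  let φ : Spec A ⟶ Y := hV.fromSpec
  let j := chart (n := n) φ
  let B : CommRingCat.{u} := CommRingCat.of (MvPolynomial n A)
  obtain ⟨T, hT, ⟨i⟩⟩ := PicHens95.exists_invertible_iso_tilde (R := B) (L.restrict j)
    (EGA73.isInvertible_restrict hL j)
  let S : Submonoid B := p.primeCompl.map (MvPolynomial.C (σ := n) (R := A))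
  let BS := MvPolynomial n (Y.presheaf.stalk y)
  letI : Algebra B BS := MvPolynomial.algebraMvPolynomial (σ := n) (R := A) (S := Y.presheaf.stalk y)
  haveI : IsLocalization S BS :=
    MvPolynomial.isLocalization (σ := n) p.primeCompl (S := Y.presheaf.stalk y)
  haveI : Module.Free BS (TensorProduct B BS T) := inferInstance
  obtain ⟨e⟩ := (Module.Invertible.free_iff_linearEquiv (R := BS) (M := TensorProduct B BS T)).1 inferInstance
  let f' : T →ₗ[B] TensorProduct B BS T := TensorProduct.mk B BS T 1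
  haveI : IsLocalizedModule S f' := inferInstance
  obtain ⟨⟨t, s⟩, hts⟩ := IsLocalizedModule.surj S f' (e.symm 1)
  have hu : IsUnit (e (f' t)) := by
    rw [← hts, Submonoid.smul_def, ← algebraMap_smul BS (s : B), map_smul, e.apply_symm_apply, smul_eq_mul,
      mul_one]
    exact IsLocalization.map_units BS s
  have hbij : ParaF26.BijAway (LinearMap.toSpanSingleton BS (TensorProduct B BS T) (f' t))
      (algebraMap B BS 1) := by
    refine ⟨fun x hx => ⟨0, ?_⟩, fun z => ⟨0, ((hu.unit⁻¹ : BSˣ) : BS) * e z, ?_⟩⟩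
    · have := congrArg e (show x • f' t = 0 from hx)
      rw [map_smul, map_zero, smul_eq_mul] at this
      rw [pow_zero, one_smul]
      exact hu.mul_left_eq_zero.1 this
    · refine e.injective ?_
      rw [pow_zero, one_smul, LinearMap.toSpanSingleton_apply, map_smul, smul_eq_mul, mul_right_comm,
        IsUnit.val_inv_mul, one_mul]
  haveI : IsLocalizedModule S (Algebra.linearMap B BS) := inferInstance
  obtain ⟨a, ha, hb⟩ := ParaF26.BijAway.spread S (Algebra.linearMap B BS) f'
    (LinearMap.toSpanSingleton B T t) (LinearMap.toSpanSingleton BS _ (f' t))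
    (fun x => by
      rw [Algebra.linearMap_apply, LinearMap.toSpanSingleton_apply, LinearMap.toSpanSingleton_apply,
        algebraMap_smul, map_smul]) (g := 1) hbij
  rw [one_mul] at hb
  obtain ⟨a₀, ha₀, rfl⟩ := ha
  have h1 := ParaF26.isFrame_elt hb (W := PrimeSpectrum.basicOpen (MvPolynomial.C a₀ : B)) le_rfl
  have h2 := (Amp73.isFrame_restrict_iff j L _ _).1 ((Amp73.isFrame_app_iff i.hom _).2 h1)
  let D : (Spec A).Opens := PrimeSpectrum.basicOpen a₀
  refine ⟨φ ''ᵁ D, ⟨hV.primeIdealOf ⟨y, hyV⟩, ha₀, hV.fromSpec_primeIdealOf ⟨y, hyV⟩⟩, _, h2.res ?_⟩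
  intro z hz
  obtain ⟨d, hd, hdz⟩ := hz
  obtain ⟨w, rfl⟩ := preimage_opensRange_le φ (show z ∈ pr n Y ⁻¹ᵁ φ.opensRange from ⟨d, hdz⟩)
  refine ⟨w, ?_, rfl⟩
  have e1 : φ (Spec.map (CommRingCat.ofHom (MvPolynomial.C (σ := n) (R := A))) w) = φ d :=
    (Scheme.Hom.comp_apply _ _ _).symm.trans
      ((congrArg (fun h : _ ⟶ Y => h w) (chart_pr φ)).symm.trans hdz.symm)
  show MvPolynomial.C a₀ ∉ w.asIdeal
  have e2 : Spec.map (CommRingCat.ofHom (MvPolynomial.C (σ := n) (R := A))) w = d :=
    φ.isOpenEmbedding.injective e1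
  rw [← e2] at hd
  exact hd

/-- An invertible module on affine space over a scheme with factorial local rings is pulled back from
the base. -/
theorem nonempty_iso_pullback_pr [IsLocallyNoetherian Y]
    (hY : ∀ y : Y, IsDomain (Y.presheaf.stalk y) ∧ UniqueFactorizationMonoid (Y.presheaf.stalk y))
    (L : (AffineSpace n Y).Modules) (hL : PicF.IsInvertible L) :
    Nonempty (L ≅ (Scheme.Modules.pullback (pr n Y)).obj
      ((Scheme.Modules.pullback (zeroSec n Y)).obj L)) := by
  classical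
  haveI : ∀ y : Y, _root_.IsReduced (Y.presheaf.stalk y) := fun y => by
    haveI := (hY y).1
    infer_instance
  haveI : IsReduced Y := isReduced_of_isReduced_stalk Y
  set s := zeroSec n Y
  set q := pr n Y
  let M := (Scheme.Modules.pullback s).obj L
  have hM : PicF.IsInvertible M := Amp73.isInvertible_pullback s hL
  choose V hyV f hf using fun y => haveI := (hY y).1; haveI := (hY y).2; exists_tube_frame y L hL
  let g : ∀ y, Γ(M, s ⁻¹ᵁ (q ⁻¹ᵁ V y)) := fun y => Amp73.pullS s L _ (f y)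
  have hg : ∀ y, IsFrame M _ (g y) := fun y => Amp73.isFrame_pullS s hL (hf y)
  have hle : ∀ y, q ⁻¹ᵁ V y ≤ q ⁻¹ᵁ (s ⁻¹ᵁ (q ⁻¹ᵁ V y)) := fun y => by rw [preimage_pr_zeroSec]
  let σ : ∀ y, Γ((Scheme.Modules.pullback q).obj M, q ⁻¹ᵁ V y) := fun y =>
    res _ (hle y) (Amp73.pullS q M _ (g y))
  have hσ : ∀ y, IsFrame _ (q ⁻¹ᵁ V y) (σ y) := fun y => (Amp73.isFrame_pullS q hM (hg y)).res (hle y)
  obtain ⟨ψ, hψ⟩ := Amp73.exists_hom_of_frames (fun y => q ⁻¹ᵁ V y)
    (top_le_iff.1 fun z _ => Opens.mem_iSup.2 ⟨q z, hyV (q z)⟩) f hf σ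
    (fun a b W ha hb c hc => by
      let V' := V a ⊓ V b
      have la : q ⁻¹ᵁ V' ≤ q ⁻¹ᵁ V a := q.preimage_mono inf_le_left
      have lb : q ⁻¹ᵁ V' ≤ q ⁻¹ᵁ V b := q.preimage_mono inf_le_right
      have lW : W ≤ q ⁻¹ᵁ V' := fun w hw => ⟨ha hw, hb hw⟩
      obtain ⟨u, hu⟩ := (hf a _ la).2 (res L lb (f b))
      obtain ⟨u', hu'⟩ := (hf b _ lb).2 (res L la (f a))
      dsimp only at hu hu'
      have huu : IsUnit u := by
        refine IsUnit.of_mul_eq_one u' ((hf a _ la).1 ?_)
        dsimp only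
        rw [one_smul, mul_comm, mul_smul, hu, hu']
      let v := q.appLE (s ⁻¹ᵁ (q ⁻¹ᵁ V')) (q ⁻¹ᵁ V') (by rw [preimage_pr_zeroSec]) (s.app _ u)
      have hsv : s.app _ v = s.app _ u := by
        show (q.appLE _ _ _ ≫ s.app (q ⁻¹ᵁ V')) (s.app _ u) = _
        rw [s.app_eq_appLE, Scheme.Hom.appLE_comp_appLE]
        simp only [s, q, zeroSec_pr]
        simp only [Scheme.Hom.appLE, Scheme.Hom.id_app, CommRingCat.comp_apply]
        exact Amp73.fres_self _
      have hvu : v = u := by
        have hvunit : IsUnit v := (huu.map _).map _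
        have h1 := unit_eq_one V' (u * ((hvunit.unit⁻¹ : Units _) : Γ(AffineSpace n Y, q ⁻¹ᵁ V')))
          (huu.mul (Units.isUnit _)) (by
            have h3 := congrArg (s.app (q ⁻¹ᵁ V')) (hvunit.mul_val_inv)
            rw [map_mul, map_one, hsv] at h3
            rw [map_mul]
            exact h3)
        calc v = (u * ((hvunit.unit⁻¹ : Units _) : Γ(AffineSpace n Y, q ⁻¹ᵁ V'))) * v := by rw [h1, one_mul]
          _ = u := by rw [mul_assoc, IsUnit.val_inv_mul, mul_one]
      have hgu : res M (s.preimage_mono lb) (g b) = s.app _ u • res M (s.preimage_mono la) (g a) := by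
        simp only [g, M]
        rw [Amp73.res_pullS s L lb, Amp73.res_pullS s L la, ← Amp73.pullS_smul, hu]
      have hσu : res _ lb (σ b) = u • res _ la (σ a) := by
        have e1 : q ⁻¹ᵁ V' ≤ q ⁻¹ᵁ (s ⁻¹ᵁ (q ⁻¹ᵁ V')) := by rw [preimage_pr_zeroSec]
        have h1 := congrArg (fun m => res _ e1 (Amp73.pullS q M _ m)) hgu
        simp only [Amp73.pullS_smul, ← Amp73.res_pullS, res_smul, res_res] at h1
        simp only [σ, res_res]
        rw [h1]
        exact congrArg (· • _) hvu
      have hcu : c = fres lW u := by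
        refine (hf a W ha).1 ?_
        dsimp only
        rw [← hc, ← res_res L lb lW, ← hu, res_smul, res_res]
      rw [← res_res _ lb lW, hσu, res_smul, res_res, hcu])
  have : IsIso ψ := Amp73.isIso_of_frames ψ fun z =>
    ⟨_, f (q z), hyV (q z), hf _, (hψ (q z)).symm ▸ hσ _⟩
  exact ⟨asIso ψ⟩

/-- All sections of affine space pull an invertible module back to isomorphic modules. -/
theorem nonempty_pullback_section_iso [IsLocallyNoetherian Y]
    (hY : ∀ y : Y, IsDomain (Y.presheaf.stalk y) ∧ UniqueFactorizationMonoid (Y.presheaf.stalk y))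
    (L : (AffineSpace n Y).Modules) (hL : PicF.IsInvertible L)
    (t : Y ⟶ AffineSpace n Y) (ht : t ≫ pr n Y = 𝟙 Y) :
    Nonempty ((Scheme.Modules.pullback t).obj L ≅ (Scheme.Modules.pullback (zeroSec n Y)).obj L) := by
  obtain ⟨e⟩ := nonempty_iso_pullback_pr hY L hL
  exact ⟨(Scheme.Modules.pullback t).mapIso e ≪≫ (Scheme.Modules.pullbackComp t (pr n Y)).app _ ≪≫
    (Scheme.Modules.pullbackCongr ht).app _ ≪≫ (Scheme.Modules.pullbackId Y).app _⟩

end Groth.Agent.AbQP57
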