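import Groth.Agent.AbQP57.Core
import Groth.Agent.Cartier57.Reduced
import Groth.Agent.AlgGrp79.GenSubgroup
import Groth.Agent.SchBasics.Reduced
import Groth.Agent.Amp73.QA
import Groth.Prelude.Def_Frob

/-!
Groups of finite type over an algebraically closed field carry an ample invertible module: reduction to the
reduced subgroup by a power of Frobenius.
-/

set_option autoImplicit false
set_option linter.style.haveILetI false
set_option backward.isDefEq.respectTransparency.types false

universe u

open CategoryTheory CategoryTheory.Limits MonoidalCategory CartesianMonoidalCategory MonObj AlgebraicGeometry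
  TopologicalSpace

noncomputable section

namespace Groth.Agent.AbQP57

/-- Iterated Frobenius. -/
def frobPow (X : Scheme.{u}) (p : ℕ) [Fact p.Prime] [FrobSch.IsCharP X p] : ℕ → (X ⟶ X)
  | 0 => 𝟙 X
  | e + 1 => frobPow X p e ≫ FrobSch.frob X p

theorem frobPow_apply (X : Scheme.{u}) (p : ℕ) [Fact p.Prime] [FrobSch.IsCharP X p] (e : ℕ) (x : X) :
    frobPow X p e x = x := by
  induction e with
  | zero => rfl
  | succ e ih => rw [frobPow, Scheme.Hom.comp_apply, ih, FrobSch.frob_apply]

theorem frobPow_app_eq_zero (X : Scheme.{u}) (p : ℕ) [Fact p.Prime] [FrobSch.IsCharP X p] (U : X.Opens)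
    (e : ℕ) (s : Γ(X, U)) (hs : s ^ (p ^ e) = 0) : (frobPow X p e).app U s = 0 := by
  induction e generalizing s with
  | zero =>
    rw [pow_zero, pow_one] at hs
    rw [hs, map_zero]
  | succ e ih =>
    have h : (frobPow X p e).app U (s ^ p) = 0 := ih _ (by rw [← pow_mul, ← pow_succ']; exact hs)
    exact h

/-- Nilpotents are killed by a power of Frobenius. -/
theorem exists_le_ker_frobPow (X : Scheme.{u}) [IsNoetherian X] (p : ℕ) [Fact p.Prime] [FrobSch.IsCharP X p] :
    ∃ e, Scheme.IdealSheafData.vanishingIdeal (⊤ : Closeds X) ≤ (frobPow X p e).ker := by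
  classical
  obtain ⟨T, hT, hfin, hsup⟩ :=
    X.isBasis_affineOpens.exists_finite_of_isCompact (U := ⊤) CompactSpace.isCompact_univ
  haveI : Finite T := hfin.to_subtype
  haveI := Fintype.ofFinite T
  let U : T → X.affineOpens := fun t => ⟨t.1, hT t.2⟩
  have hnil : ∀ t, ∃ N, ∀ s ∈ (Scheme.IdealSheafData.vanishingIdeal (⊤ : Closeds X)).ideal (U t),
      s ^ N = 0 := by
    intro t
    haveI := IsLocallyNoetherian.component_noetherian (U t)
    obtain ⟨N, hN⟩ := IsNoetherianRing.isNilpotent_nilradical Γ(X, (U t).1)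
    refine ⟨N, fun s hs => ?_⟩
    rw [Scheme.IdealSheafData.vanishingIdeal_ideal] at hs
    have h1 : s ∈ nilradical Γ(X, (U t).1) := by
      rw [← PrimeSpectrum.vanishingIdeal_univ]
      simpa using hs
    have h2 := Ideal.pow_mem_pow h1 N
    rw [hN] at h2
    exact h2
  choose N hN using hnil
  refine ⟨Finset.univ.sup N, Scheme.IdealSheafData.le_of_iSup_eq_top U ?_ fun t s hs => ?_⟩
  · refine top_le_iff.1 fun x _ => ?_
    obtain ⟨V, hV, hxV⟩ := Opens.mem_sSup.1 (hsup.le (show x ∈ (⊤ : X.Opens) from trivial))
    exact Opens.mem_iSup.2 ⟨⟨V, hV⟩, hxV⟩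
  · haveI : QuasiCompact (frobPow X p (Finset.univ.sup N)) := inferInstance
    rw [Scheme.Hom.ker_apply, RingHom.mem_ker]
    refine frobPow_app_eq_zero X p _ _ s (pow_eq_zero_of_le ?_ (hN t s hs))
    exact (Finset.le_sup (Finset.mem_univ t)).trans
      (Nat.lt_pow_self (Fact.out : p.Prime).one_lt).le

variable {k : Type u} [Field k]

/-- The reduced subgroup of a group of finite type over an algebraically closed field. -/
theorem exists_reduced_subgroup [IsAlgClosed k] (G : Over (Spec (CommRingCat.of k))) [GrpObj G]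
    [LocallyOfFiniteType G.hom] :
    ∃ (H : Over (Spec (CommRingCat.of k))) (_ : GrpObj H) (i : H ⟶ G),
      i.left.ker = Scheme.IdealSheafData.vanishingIdeal (⊤ : Closeds G.left) ∧
        IsClosedImmersion i.left ∧ Smooth H.hom := by
  let I := Scheme.IdealSheafData.vanishingIdeal (⊤ : Closeds G.left)
  let H : Over (Spec (CommRingCat.of k)) := Over.mk (I.subschemeι ≫ G.hom)
  let i : H ⟶ G := Over.homMk I.subschemeι rfl
  haveI : IsClosedImmersion i.left := inferInstanceAs (IsClosedImmersion I.subschemeι)
  haveI : Mono i := Over.mono_of_mono_left i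
  haveI hred : IsReduced H.left := SchBasics.isReduced_vanishingIdeal_subscheme _
  haveI : LocallyOfFiniteType H.hom := inferInstanceAs (LocallyOfFiniteType (I.subschemeι ≫ G.hom))
  have hr : Set.range i.left = Set.univ := SchBasics.range_vanishingIdeal_subschemeι _
  have hlift : ∀ (T : Over (Spec (CommRingCat.of k))) [IsReduced T.left] (f : T ⟶ G),
      ∃ g : T ⟶ H, g ≫ i = f := fun T _ f =>
    AlgGrp79.exists_lift_of_range_subset i f (by rw [hr]; exact Set.subset_univ _)
  have h1 : ∃ e : 𝟙_ (Over (Spec (CommRingCat.of k))) ⟶ H, e ≫ i = η[G] := by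
    haveI : IsReduced (𝟙_ (Over (Spec (CommRingCat.of k)))).left :=
      inferInstanceAs (IsReduced (Spec (CommRingCat.of k)))
    exact hlift _ _
  have h2 : ∀ (T : Over (Spec (CommRingCat.of k))) (a b : T ⟶ H),
      ∃ c : T ⟶ H, c ≫ i = (a ≫ i)⁻¹ * (b ≫ i) := by
    haveI : IsReduced (H ⊗ H).left := AlgGrp79.reduced_prod H H
    obtain ⟨μH, hμH⟩ := hlift (H ⊗ H) ((fst H H ≫ i)⁻¹ * (snd H H ≫ i))
    intro T a b
    exact ⟨lift a b ≫ μH, by
      rw [Category.assoc, hμH, MonObj.comp_mul, GrpObj.comp_inv, lift_fst_assoc, lift_snd_assoc]⟩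
  obtain ⟨hgrp, -⟩ := AlgGrp79.exists_grpObj_closed i h1 h2
  refine ⟨H, hgrp, i, ?_, inferInstance, ?_⟩
  · exact I.ker_subschemeι
  · letI := hgrp
    have : GeometricallyReduced H.hom := by
      have : IsReduced (FBase.bc H.hom (AlgebraicClosure k)) := by
        have hiso : IsIso (Spec.map (CommRingCat.ofHom (algebraMap k (AlgebraicClosure k)))) := by
          rw [isIso_SpecMap_iff]
          exact IsAlgClosed.algebraMap_bijective_of_isIntegral
        have : IsIso (pullback.fst H.hom (Spec.map (CommRingCat.ofHom (algebraMap k (AlgebraicClosure k))))) :=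
          MorphismProperty.pullback_fst (P := MorphismProperty.isomorphisms Scheme.{u}) _ _ hiso
        exact @isReduced_of_isOpenImmersion _ _
          (pullback.fst H.hom (Spec.map (CommRingCat.ofHom (algebraMap k (AlgebraicClosure k)))))
          (@IsOpenImmersion.of_isIso _ _ _ this) hred
      exact FBase64.geometricallyReduced_of_isReduced_perfect _ (AlgebraicClosure k)
    letI : GrpObj (Over.mk H.hom) := hgrp
    exact smooth_of_grpObj H.hom

/-- A group scheme of finite type over an algebraically closed field has an ample invertible module. -/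
theorem exists_isAmple_of_isAlgClosed [IsAlgClosed k] (G : Over (Spec (CommRingCat.of k))) [GrpObj G]
    [LocallyOfFiniteType G.hom] [QuasiCompact G.hom] : ∃ L : G.left.Modules, CohB1.IsAmple L := by
  obtain ⟨p, hp⟩ := CharP.exists k
  rcases Nat.eq_zero_or_pos p with rfl | hpos
  · haveI : CharZero k := CharP.charP_to_charZero k
    haveI := Cartier57.smooth G
    exact exists_isAmple_of_smooth G
  · haveI : Fact p.Prime := ⟨(CharP.char_is_prime_or_zero k p).resolve_right hpos.ne'⟩
    haveI : FrobSch.IsCharP G.left p := FrobSch.IsCharP.of_hom G.hom p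
    obtain ⟨H, _, i, hker, _, _⟩ := exists_reduced_subgroup G
    haveI : QuasiCompact H.hom := by rw [← Over.w i]; infer_instance
    obtain ⟨L, hL⟩ := exists_isAmple_of_smooth H
    haveI : IsLocallyNoetherian G.left := LocallyOfFiniteType.isLocallyNoetherian G.hom
    haveI : CompactSpace G.left := QuasiCompact.compactSpace_of_compactSpace G.hom
    haveI : IsNoetherian G.left := { }
    obtain ⟨e, he⟩ := exists_le_ker_frobPow G.left p
    let f : G.left ⟶ H.left := IsClosedImmersion.lift i.left (frobPow G.left p e) (hker ▸ he)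
    have hf : f ≫ i.left = frobPow G.left p e := IsClosedImmersion.lift_fac _ _ _
    have hemb : Topology.IsEmbedding f.base := by
      refine Topology.IsEmbedding.of_comp f.continuous i.left.continuous ?_
      convert Topology.IsEmbedding.id (X := G.left) using 1
      funext x
      show i.left (f x) = x
      rw [← Scheme.Hom.comp_apply, hf, frobPow_apply]
    exact ⟨_, Amp73.isAmple_pullback_of_isEmbedding f hemb hL⟩

end Groth.Agent.AbQP57
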